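import Mathlib
import Groth.Agent.Comod.DualModule
import Groth.Agent.UnipFilt.Basic
import Groth.Prelude.Def_ComodSub

/-!
Unipotence as conilpotence of the coordinate bialgebra.
-/

set_option autoImplicit false
set_option linter.style.haveILetI false
set_option linter.unusedSectionVars false

universe u u' v w

open TensorProduct Coalgebra
open Groth.Agent.Comod
open scoped Groth.Agent.Comod

noncomputable section

namespace Groth.Agent.UnipConil

variable (k : Type u) [Field k] (A : Type v) [CommRing A] [Bialgebra k A]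

/-- The value of the product of two functionals, at an element. -/
def pair (f g : A →ₗ[k] k) : A →ₗ[k] k :=
  LinearMap.mul' k k ∘ₗ TensorProduct.map f g ∘ₗ comul (R := k)

/-- The filtration by powers of the ideal of functionals killing the unit. -/
def filt : ℕ → Submodule k A
  | 0 => Submodule.span k {(1 : A)}
  | n + 1 => ⨅ (f : A →ₗ[k] k) (g : A →ₗ[k] k) (_ : f 1 = 0) (_ : ∀ c ∈ filt n, g c = 0),
      LinearMap.ker (pair k A f g)

/-- The bialgebra is conilpotent. -/
def IsConil : Prop := ∀ a : A, ∃ n, a ∈ filt k A n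

variable {k A}

theorem mem_filt_succ {n : ℕ} {c : A} : c ∈ filt k A (n + 1) ↔
    ∀ f g : A →ₗ[k] k, f 1 = 0 → (∀ x ∈ filt k A n, g x = 0) → pair k A f g c = 0 := by
  simp [filt, Submodule.mem_iInf, LinearMap.mem_ker]

theorem mul_contract (f g : A →ₗ[k] k) (t : A ⊗[k] A) :
    LinearMap.mul' k k (TensorProduct.map f g t) = g (cL f t) := by
  induction t using TensorProduct.induction_on with
  | zero => simp
  | tmul x y => simp
  | add x y hx hy => simp [hx, hy]

theorem pair_eq_cL (f g : A →ₗ[k] k) (c : A) : pair k A f g c = g (cL f (comul (R := k) c)) :=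
  mul_contract f g _

theorem pair_eq_cR (f g : A →ₗ[k] k) (c : A) : pair k A f g c = f (cR g (comul (R := k) c)) := by
  show LinearMap.mul' k k (TensorProduct.map f g (comul (R := k) c)) = _
  generalize comul (R := k) c = t
  induction t using TensorProduct.induction_on with
  | zero => simp
  | tmul x y => simp [mul_comm]
  | add x y hx hy => simp [hx, hy]

theorem pair_eq_mul (f g : A →ₗ[k] k) (c : A) :
    pair k A f g c = (WithConv.toConv f * WithConv.toConv g).ofConv c := by
  rw [LinearMap.convMul_def]; rfl

theorem mem_of_forall_dual {W : Submodule k A} {x : A}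
    (h : ∀ f : A →ₗ[k] k, (∀ y ∈ W, f y = 0) → f x = 0) : x ∈ W := by
  by_contra hx
  obtain ⟨f, h1, h2⟩ := Submodule.exists_dual_map_eq_bot_of_notMem hx inferInstance
  exact h1 (h f fun y hy => (Submodule.mem_bot k).1 (h2 ▸ Submodule.mem_map_of_mem hy))

theorem filt_le_succ : ∀ n, filt k A n ≤ filt k A (n + 1)
  | 0 => by
    rw [filt, Submodule.span_le, Set.singleton_subset_iff, SetLike.mem_coe, mem_filt_succ]
    intro f g hf _
    rw [pair_eq_cL, Bialgebra.comul_one, Algebra.TensorProduct.one_def, cL_tmul, hf, zero_smul, map_zero]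
  | n + 1 => fun c hc => mem_filt_succ.mpr fun f g hf hg =>
      mem_filt_succ.mp hc f g hf fun x hx => hg x (filt_le_succ n hx)

theorem filt_mono : Monotone (filt k A) := monotone_nat_of_le_succ filt_le_succ

theorem one_mem_filt (n : ℕ) : (1 : A) ∈ filt k A n :=
  filt_mono (Nat.zero_le n) (Submodule.mem_span_singleton_self _)

/-- Contraction on the left by a functional killing the unit lowers the filtration. -/
theorem cL_mem {n : ℕ} {c : A} (hc : c ∈ filt k A (n + 1)) {f : A →ₗ[k] k} (hf : f 1 = 0) :
    cL f (comul (R := k) c) ∈ filt k A n :=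
  mem_of_forall_dual fun g hg => (pair_eq_cL f g c).symm.trans (mem_filt_succ.mp hc f g hf hg)

/-- The reversed products also lower the filtration. -/
theorem pair_right : ∀ n (g f : A →ₗ[k] k), (∀ x ∈ filt k A n, g x = 0) → f 1 = 0 →
    ∀ c ∈ filt k A (n + 1), pair k A g f c = 0 := by
  intro n
  induction n with
  | zero =>
    intro g f hg hf c hc
    refine mem_filt_succ.mp hc g f (hg 1 (one_mem_filt 0)) fun x hx => ?_
    obtain ⟨a, rfl⟩ := Submodule.mem_span_singleton.mp hx
    rw [map_smul, hf, smul_zero]
  | succ n ih =>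
    intro g f hg hf c hc
    rw [pair_eq_cR]
    refine hg _ (mem_filt_succ.mpr fun h g' hh hg' => ?_)
    have e : pair k A h g' (cR f (comul (R := k) c)) = pair k A h (pair k A g' f) c := by
      rw [← pair_eq_cR, pair_eq_mul, pair_eq_mul]
      have h1 : WithConv.toConv (pair k A h g') = WithConv.toConv h * WithConv.toConv g' := by
        apply WithConv.ofConv_injective; ext x; exact pair_eq_mul h g' x
      have h2 : WithConv.toConv (pair k A g' f) = WithConv.toConv g' * WithConv.toConv f := by
        apply WithConv.ofConv_injective; ext x; exact pair_eq_mul g' f x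
      rw [h1, h2, mul_assoc]
    rw [e]
    exact mem_filt_succ.mp hc h _ hh fun x hx => ih g' f hg' hf x hx

theorem cR_mem {n : ℕ} {c : A} (hc : c ∈ filt k A (n + 1)) {f : A →ₗ[k] k} (hf : f 1 = 0) :
    cR f (comul (R := k) c) ∈ filt k A n :=
  mem_of_forall_dual fun g hg => (pair_eq_cR g f c).symm.trans (pair_right n g f hg hf c hc)

theorem exists_bound (h : IsConil k A) (S : Submodule k A) [Module.Finite k S] :
    ∃ n, S ≤ filt k A n := by
  obtain ⟨s, hs⟩ := Module.Finite.iff_fg.mp (inferInstance : Module.Finite k S)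
  choose m hm using h
  refine ⟨s.sup m, ?_⟩
  rw [← hs, Submodule.span_le]
  exact fun x hx => filt_mono (Finset.le_sup hx) (hm x)

/-- Conilpotent bialgebras give unipotent groups. -/
theorem isUnipotent_of_conil (h : IsConil k A) : HopfRep.IsUnipotent k A := by
  intro V _ _ _ _ _
  obtain ⟨v, hv⟩ := exists_ne (0 : V)
  let Φ : (V →ₗ[k] k) →ₗ[k] A :=
    { toFun := fun φ => cL φ (HopfRep.Comod.coact (k := k) (A := A) v)
      map_add' := fun φ ψ => by simp [cL, LinearMap.rTensor_add]
      map_smul' := fun a φ => by simp [cL, LinearMap.rTensor_smul] }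
  obtain ⟨n, hn⟩ := exists_bound h (LinearMap.range Φ)
  refine Groth.Agent.UnipFilt.exists_fixed (filt k A) le_rfl (fun m f hf c hc => ?_) n v hv
    fun φ => hn ⟨φ, rfl⟩
  refine mem_of_forall_dual fun g hg => ?_
  rw [← pair_eq_cR]
  exact mem_filt_succ.mp hc g f (hg 1 (one_mem_filt 0)) hf

/-- Coefficients of finite dimensional comodules of a unipotent group lie in the filtration. -/
theorem coeff_mem (hU : HopfRep.IsUnipotent k A) :
    ∀ (d : ℕ) (V : Type v) [AddCommGroup V] [Module k V] [Module.Finite k V] [HopfRep.Comod k A V],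
      Module.finrank k V ≤ d → ∀ (φ : V →ₗ[k] k) (x : V),
        cL φ (HopfRep.Comod.coact (k := k) (A := A) x) ∈ filt k A d := by
  intro d
  induction d with
  | zero =>
    intro V _ _ _ _ hd φ x
    have : Subsingleton V := Module.finrank_zero_iff.mp (Nat.le_zero.mp hd)
    rw [Subsingleton.elim x 0, map_zero, map_zero]
    exact Submodule.zero_mem _
  | succ d ih =>
    intro V _ _ _ c hd φ x
    rcases subsingleton_or_nontrivial V with hsub | hnt
    · rw [Subsingleton.elim x 0, map_zero, map_zero]
      exact Submodule.zero_mem _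
    obtain ⟨v₀, hv₀, hne⟩ := (Submodule.ne_bot_iff _).1 (hU V inferInstance inferInstance)
    have hfix : HopfRep.Comod.coact (k := k) (A := A) v₀ = v₀ ⊗ₜ[k] (1 : A) := hv₀
    have hW : HopfRep.IsSubcomod (k := k) (A := A) (Submodule.span k {v₀}) := by
      intro w hw
      obtain ⟨a, rfl⟩ := Submodule.mem_span_singleton.mp hw
      exact ⟨⟨a • v₀, hw⟩ ⊗ₜ 1, by simp [hfix, TensorProduct.smul_tmul']⟩
    set W := Submodule.span k {v₀} with hWdef
    letI cQ : HopfRep.Comod k A (V ⧸ W) := ComodSub.Comod.quot c W hW
    have hdQ : Module.finrank k (V ⧸ W) ≤ d := by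
      have h1 := W.finrank_quotient_add_finrank
      have h2 : Module.finrank k W = 1 := finrank_span_singleton hne
      omega
    refine mem_filt_succ.mpr fun f g hf hg => ?_
    rw [pair_eq_cR]
    have e : cR g (comul (R := k) (cL φ (HopfRep.Comod.coact (k := k) (A := A) x))) =
        cL φ (HopfRep.Comod.coact (k := k) (A := A) (dact k A V (WithConv.toConv g) x)) :=
      coeff_smul (WithConv.toConv g) φ x
    rw [e]
    have hmem : dact k A V (WithConv.toConv g) x ∈ W := by
      rw [← Submodule.Quotient.mk_eq_zero, ← Module.forall_dual_apply_eq_zero_iff k]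
      intro ψ
      have hq : W.mkQ (dact k A V (WithConv.toConv g) x) =
          cR g (HopfRep.Comod.coact (k := k) (A := A) (W.mkQ x)) := by
        rw [Submodule.mkQ_apply, Submodule.mkQ_apply, ComodSub.quot_coact_mk, cR_rTensor]
        rfl
      rw [Submodule.mkQ_apply] at hq
      rw [hq, ← cR_cL]
      exact hg _ (ih (V ⧸ W) hdQ ψ _)
    obtain ⟨a, ha⟩ := Submodule.mem_span_singleton.mp hmem
    rw [← ha, map_smul, hfix, map_smul, cL_tmul, map_smul, map_smul, hf, smul_zero, smul_zero]

/-- Unipotent groups have conilpotent coordinate bialgebras. -/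
theorem isConil_of_unipotent (hU : HopfRep.IsUnipotent k A) : IsConil k A := by
  intro a
  obtain ⟨S, haS, hfin⟩ := exists_finite_subcomod (K := k) (C := A) (V := A) a
  let W := ofDSub S
  have hW : HopfRep.IsSubcomod (k := k) (A := A) W := isSubcomod_ofDSub S
  letI cW : HopfRep.Comod k A W := ComodSub.Comod.restr (HopfRep.Comod.regular k A) W hW
  refine ⟨Module.finrank k W, ?_⟩
  have h := coeff_mem hU _ W le_rfl ((counit (R := k) (A := A)) ∘ₗ W.subtype) ⟨a, haS⟩
  have e : cL ((counit (R := k) (A := A)) ∘ₗ W.subtype) (HopfRep.Comod.coact (k := k) (A := A) (⟨a, haS⟩ : W)) =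
      cL (counit (R := k) (A := A)) (comul (R := k) a) := by
    have h1 := ComodSub.restr_coact_coe (HopfRep.Comod.regular k A) W hW ⟨a, haS⟩
    show _ = cL _ ((HopfRep.Comod.regular k A).coact a)
    rw [← h1]
    generalize HopfRep.Comod.coact (k := k) (A := A) (⟨a, haS⟩ : W) = t
    induction t using TensorProduct.induction_on with
    | zero => simp
    | tmul p q => simp
    | add p q hp hq => simp only [map_add, hp, hq]
  rw [e] at h
  have e2 : cL (counit (R := k) (A := A)) (comul (R := k) a) = a := by
    show TensorProduct.lid k A ((counit (R := k) (A := A)).rTensor A (comul (R := k) a)) = a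
    rw [Coalgebra.rTensor_counit_comul]; simp
  rwa [e2] at h

theorem isUnipotent_iff : HopfRep.IsUnipotent k A ↔ IsConil k A :=
  ⟨isConil_of_unipotent, isUnipotent_of_conil⟩

section BaseChange

variable (k' : Type u') [Field k'] [Algebra k k']

/-- The inclusion into the base change. -/
abbrev ι : A →ₗ[k] k' ⊗[k] A := TensorProduct.mk k k' A 1

theorem comul_ι (c : A) (F G : k' ⊗[k] A →ₗ[k'] k') :
    pair k' (k' ⊗[k] A) F G (ι (k := k) k' c) =
      LinearMap.mul' k k' (TensorProduct.map ((F.restrictScalars k) ∘ₗ ι k')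
        ((G.restrictScalars k) ∘ₗ ι k') (comul (R := k) c)) := by
  show LinearMap.mul' k' k' (TensorProduct.map F G (comul (R := k') ((1 : k') ⊗ₜ[k] c))) = _
  rw [TensorProduct.comul_tmul, CommSemiring.comul_apply]
  generalize comul (R := k) c = t
  induction t using TensorProduct.induction_on with
  | zero => simp
  | tmul x y => simp [ι]
  | add x y hx hy => simp only [tmul_add, map_add, hx, hy]

/-- An element of `A ⊗ k'` seen by a `k'`-valued functional. -/
theorem mul'_map_eq (F G : A →ₗ[k] k') (t : A ⊗[k] A) :
    LinearMap.mul' k k' (TensorProduct.map F G t) =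
      LinearMap.mul' k k' (F.rTensor k' (G.lTensor A t)) := by
  induction t using TensorProduct.induction_on with
  | zero => simp
  | tmul x y => simp
  | add x y hx hy => simp only [map_add, hx, hy]

theorem ι_mem_filt : ∀ (n : ℕ) (c : A), c ∈ filt k A n → ι (k := k) k' c ∈ filt k' (k' ⊗[k] A) n := by
  intro n
  induction n with
  | zero =>
    intro c hc
    obtain ⟨a, rfl⟩ := Submodule.mem_span_singleton.mp hc
    rw [map_smul, ← algebraMap_smul k' a]
    exact Submodule.smul_mem _ _ (Submodule.mem_span_singleton_self _)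
  | succ n ih =>
    intro c hc
    refine mem_filt_succ.mpr fun F G hF hG => ?_
    rw [comul_ι, mul'_map_eq]
    set G' := (G.restrictScalars k) ∘ₗ ι (k := k) (A := A) k' with hG'
    set z := G'.lTensor A (comul (R := k) c)
    have hz : z ∈ LinearMap.range ((Submodule.span k {(1 : A)}).subtype.rTensor k') := by
      rw [Groth.Agent.Comod.mem_range_rTensor_iff]
      intro χ
      refine mem_of_forall_dual fun f hf => ?_
      rw [← cR_cL, cL_lTensor]
      have := mem_filt_succ.mp hc f (χ ∘ₗ G') (hf 1 (Submodule.mem_span_singleton_self _))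
        (fun x hx => by
          show χ (G (ι k' x)) = 0
          rw [hG _ (ih x hx), map_zero])
      rw [pair_eq_cL] at this
      exact this
    obtain ⟨w, hw⟩ := hz
    rw [← hw, ← LinearMap.rTensor_comp_apply]
    have h0 : ((F.restrictScalars k) ∘ₗ ι (k := k) (A := A) k') ∘ₗ (Submodule.span k {(1 : A)}).subtype = 0 := by
      refine LinearMap.ext fun y => ?_
      obtain ⟨a, ha⟩ := Submodule.mem_span_singleton.mp y.2
      simp only [LinearMap.comp_apply, Submodule.subtype_apply, ← ha, map_smul, LinearMap.zero_apply]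
      show a • F (1 : k' ⊗[k] A) = 0
      rw [hF, smul_zero]
    rw [h0, LinearMap.rTensor_zero, LinearMap.zero_apply, map_zero]

/-- Conilpotence is stable under extension of the ground field. -/
theorem isConil_baseChange (h : IsConil k A) : IsConil k' (k' ⊗[k] A) := by
  intro x
  induction x using TensorProduct.induction_on with
  | zero => exact ⟨0, Submodule.zero_mem _⟩
  | tmul c a =>
    obtain ⟨n, hn⟩ := h a
    refine ⟨n, ?_⟩
    rw [show c ⊗ₜ[k] a = c • ι (k := k) k' a by simp [ι, TensorProduct.smul_tmul']]
    exact Submodule.smul_mem _ _ (ι_mem_filt k' n a hn)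
  | add x y hx hy =>
    obtain ⟨n, hn⟩ := hx
    obtain ⟨m, hm⟩ := hy
    exact ⟨max n m, Submodule.add_mem _ (filt_mono (le_max_left n m) hn) (filt_mono (le_max_right n m) hm)⟩

theorem coeff_mem_filt : ∀ (n : ℕ) (x : k' ⊗[k] A), x ∈ filt k' (k' ⊗[k] A) n →
    ∀ χ : k' →ₗ[k] k, TensorProduct.lid k A (χ.rTensor A x) ∈ filt k A n := by
  intro n
  induction n with
  | zero =>
    intro x hx χ
    obtain ⟨c, rfl⟩ := Submodule.mem_span_singleton.mp hx
    rw [Algebra.TensorProduct.one_def, TensorProduct.smul_tmul', LinearMap.rTensor_tmul, TensorProduct.lid_tmul]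
    exact Submodule.smul_mem _ _ (Submodule.mem_span_singleton_self _)
  | succ n ih =>
    intro x hx χ
    refine mem_filt_succ.mpr fun f g hf hg => ?_
    let F : k' ⊗[k] A →ₗ[k'] k' :=
      (TensorProduct.AlgebraTensorModule.rid k k' k').toLinearMap ∘ₗ f.baseChange k'
    let G : k' ⊗[k] A →ₗ[k'] k' :=
      (TensorProduct.AlgebraTensorModule.rid k k' k').toLinearMap ∘ₗ g.baseChange k'
    have hF : F 1 = 0 := by simp [F, Algebra.TensorProduct.one_def, hf]
    have hG : ∀ y ∈ filt k' (k' ⊗[k] A) n, G y = 0 := by
      intro y hy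
      rw [← Module.forall_dual_apply_eq_zero_iff k]
      intro ξ
      have e : ξ (G y) = g (TensorProduct.lid k A (ξ.rTensor A y)) := by
        clear hy
        induction y using TensorProduct.induction_on with
        | zero => simp
        | tmul p q => simp [G, mul_comm]
        | add p q hp hq => simp only [map_add, hp, hq]
      rw [e]
      exact hg _ (ih y hy ξ)
    have h0 := congrArg χ (mem_filt_succ.mp hx F G hF hG)
    rw [map_zero] at h0
    rw [← h0]
    clear hx h0
    induction x using TensorProduct.induction_on with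
    | zero => simp
    | add p q hp hq => simp only [map_add, hp, hq]
    | tmul p q =>
      rw [LinearMap.rTensor_tmul, TensorProduct.lid_tmul, map_smul,
        show p ⊗ₜ[k] q = p • ι (k := k) k' q by simp [ι, TensorProduct.smul_tmul'], map_smul,
        smul_eq_mul, smul_eq_mul, comul_ι]
      show χ p * LinearMap.mul' k k (TensorProduct.map f g (comul (R := k) q)) = _
      generalize comul (R := k) q = t
      induction t using TensorProduct.induction_on with
      | zero => simp
      | tmul a b =>
        simp [F, G, ι, Algebra.smul_def]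
        rw [← map_mul, mul_comm p, ← Algebra.smul_def, map_smul, smul_eq_mul]
        ring
      | add a b ha hb => simp only [map_add, mul_add, ha, hb]

/-- Conilpotence descends along extensions of the ground field. -/
theorem isConil_of_baseChange (h : IsConil k' (k' ⊗[k] A)) : IsConil k A := by
  intro a
  obtain ⟨n, hn⟩ := h (ι (k := k) k' a)
  obtain ⟨χ, hχ⟩ : ∃ χ : k' →ₗ[k] k, χ 1 = 1 := by
    obtain ⟨χ, hχ⟩ := (Algebra.linearMap k k').exists_leftInverse_of_injective
      (LinearMap.ker_eq_bot.mpr (algebraMap k k').injective)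
    exact ⟨χ, by simpa using LinearMap.congr_fun hχ 1⟩
  refine ⟨n, ?_⟩
  have := coeff_mem_filt k' n _ hn χ
  simpa [ι, hχ] using this

end BaseChange

end Groth.Agent.UnipConil
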