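import Groth.Agent.UnipConil.Points
import Groth.Agent.UnipFilt.Basic
import Groth.Agent.Comod.Change
import Groth.Agent.HopfRange.Basic
import Groth.Prelude.Def_ComodSub
import Mathlib.RingTheory.HopfAlgebra.Quotient
import Mathlib.RingTheory.Bialgebra.Quotient

/-!
Flags, subgroups, quotients and extensions of unipotent groups, through conilpotence.
-/

set_option autoImplicit false
set_option linter.style.haveILetI false
set_option linter.unusedSectionVars false

universe u v w

open TensorProduct Coalgebra
open Groth.Agent.Comod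
open scoped Groth.Agent.Comod

noncomputable section

namespace Groth.Agent.UnipConil

variable {k : Type u} [Field k] {A : Type v} [CommRing A] [Bialgebra k A]

theorem cL_counit_comul' (a : A) : cL (counit (R := k) (A := A)) (comul (R := k) a) = a := by
  show TensorProduct.lid k A ((counit (R := k) (A := A)).rTensor A (comul (R := k) a)) = a
  rw [Coalgebra.rTensor_counit_comul]; simp

theorem cL_mem_self' {n : ℕ} {c : A} (hc : c ∈ filt k A n) (f : A →ₗ[k] k) :
    cL f (comul (R := k) c) ∈ filt k A n := by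
  have h := cL_mem (filt_le_succ n hc) (f := f - f 1 • counit (R := k) (A := A)) (by simp)
  have e : cL f (comul (R := k) c) =
      cL (f - f 1 • counit (R := k) (A := A)) (comul (R := k) c) + f 1 • c := by
    conv_rhs => arg 2; rw [← cL_counit_comul' (k := k) c]
    simp [cL, LinearMap.rTensor_sub, LinearMap.rTensor_smul]
  rw [e]
  exact Submodule.add_mem _ h (Submodule.smul_mem _ _ hc)

/-- Products of functionals killing stages of the filtration. -/
theorem mul_kills : ∀ (a b : ℕ) (h g : A →ₗ[k] k), (∀ x ∈ filt k A a, h x = 0) →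
    (∀ x ∈ filt k A b, g x = 0) → ∀ c ∈ filt k A (a + b + 1), pair k A h g c = 0 := by
  intro a
  induction a with
  | zero =>
    intro b h g hh hg c hc
    exact mem_filt_succ.mp (by rwa [zero_add] at hc) h g (hh 1 (one_mem_filt 0)) hg
  | succ a ih =>
    intro b h g hh hg c hc
    rw [pair_eq_cR]
    refine hh _ (mem_filt_succ.mpr fun f h' hf hh' => ?_)
    have e : pair k A f h' (cR g (comul (R := k) c)) = pair k A f (pair k A h' g) c := by
      rw [← pair_eq_cR, pair_eq_mul, pair_eq_mul]
      have h1 : WithConv.toConv (pair k A f h') = WithConv.toConv f * WithConv.toConv h' := by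
        apply WithConv.ofConv_injective; ext x; exact pair_eq_mul f h' x
      have h2 : WithConv.toConv (pair k A h' g) = WithConv.toConv h' * WithConv.toConv g := by
        apply WithConv.ofConv_injective; ext x; exact pair_eq_mul h' g x
      rw [h1, h2, mul_assoc]
    rw [e]
    refine (mem_filt_succ (n := a + b + 1)).mp ?_ f _ hf fun x hx => ih b h' g hh' hg x hx
    rwa [show a + b + 1 + 1 = a + 1 + b + 1 by omega]

theorem cR_mem_kills {m b : ℕ} {c : A} (hc : c ∈ filt k A (m + b + 1)) {g : A →ₗ[k] k}
    (hg : ∀ x ∈ filt k A b, g x = 0) : cR g (comul (R := k) c) ∈ filt k A m :=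
  mem_of_forall_dual fun h hh => (pair_eq_cR h g c).symm.trans (mul_kills m b h g hh hg c hc)

/-- The filtration is a filtration of coalgebras. -/
theorem comul_mem_iSup (r : ℕ) {c : A} (hc : c ∈ filt k A r) :
    comul (R := k) c ∈ ⨆ i ∈ Finset.range (r + 1),
      LinearMap.range (TensorProduct.mapIncl (filt k A i) (filt k A (r - i))) := by
  set S := ⨆ i ∈ Finset.range (r + 1), LinearMap.range (TensorProduct.mapIncl (filt k A i) (filt k A (r - i)))
  have hS : ∀ i ≤ r, ∀ t : A ⊗[k] A, (∀ f, cR f t ∈ filt k A (r - i)) → (∀ φ, cL φ t ∈ filt k A i) → t ∈ S := by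
    intro i hi t h1 h2
    refine Submodule.mem_iSup_of_mem (r - i) (Submodule.mem_iSup_of_mem (Finset.mem_range.mpr (by omega)) ?_)
    rw [show r - (r - i) = i by omega]
    exact (mem_range_map_iff _ _ _).mpr ⟨h1, h2⟩
  suffices Q : ∀ j ≤ r, ∀ t : A ⊗[k] A, (∀ φ, cL φ t ∈ filt k A j) → (∀ f, cR f t ∈ filt k A r) →
      (∀ i < j, ∀ g : A →ₗ[k] k, (∀ x ∈ filt k A i, g x = 0) → cR g t ∈ filt k A (r - i - 1)) → t ∈ S by
    refine Q r le_rfl _ (fun φ => cL_mem_self' hc φ) (fun f => cR_mem_self hc f) fun i hi g hg => ?_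
    exact cR_mem_kills (by rwa [show r - i - 1 + i + 1 = r by omega]) hg
  intro j
  induction j with
  | zero => exact fun _ t h1 h2 _ => hS 0 (Nat.zero_le r) t (by simpa using h2) h1
  | succ j ih =>
    intro hj t h1 h2 h3
    obtain ⟨Q, hQ⟩ := (filt k A j).exists_isCompl
    let p : A →ₗ[k] A := (filt k A j).subtype ∘ₗ (filt k A j).projectionOnto Q hQ
    have hp : ∀ x ∈ filt k A j, p x = x := fun x hx =>
      congrArg Subtype.val (Submodule.projectionOnto_apply_left hQ ⟨x, hx⟩)
    have hp' : ∀ x, p x ∈ filt k A j := fun x => ((filt k A j).projectionOnto Q hQ x).2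
    have hR : ∀ (q : A →ₗ[k] A) (g : A →ₗ[k] k) (s : A ⊗[k] A), cR g (q.lTensor A s) = cR (g ∘ₗ q) s := by
      intro q g s
      induction s using TensorProduct.induction_on with
      | zero => simp
      | tmul x y => simp
      | add x y hx hy => simp only [map_add, hx, hy]
    have hsum : t = p.lTensor A t + (LinearMap.id - p).lTensor A t := by
      rw [← LinearMap.add_apply, ← LinearMap.lTensor_add, add_sub_cancel, LinearMap.lTensor_id]
      rfl
    rw [hsum]
    refine add_mem (ih (by omega) _ (fun φ => by rw [cL_lTensor]; exact hp' _)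
      (fun f => by rw [hR]; exact h2 _) fun i hi g hg => ?_) (hS (j + 1) hj _ (fun f => ?_) fun φ => ?_)
    · rw [hR]
      refine h3 i (by omega) _ fun x hx => ?_
      rw [LinearMap.comp_apply, hp x (filt_mono (by omega) hx)]
      exact hg x hx
    · rw [hR, show r - (j + 1) = r - j - 1 by omega]
      exact h3 j (by omega) _ fun x hx => by simp [hp x hx]
    · rw [cL_lTensor]
      exact sub_mem (h1 φ) (filt_le_succ j (hp' _))

/-- Filtrations of coalgebras starting at the scalars lie below the conilpotence filtration. -/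
theorem le_filt (C : ℕ → Submodule k A) (hmono : Monotone C) (h0 : C 0 = Submodule.span k {(1 : A)})
    (hΔ : ∀ r, Submodule.map (comul (R := k) (A := A)) (C r) ≤
      ⨆ i ∈ Finset.range (r + 1), LinearMap.range (TensorProduct.mapIncl (C i) (C (r - i)))) :
    ∀ r, C r ≤ filt k A r := by
  intro r
  induction r with
  | zero => rw [h0]; exact le_rfl
  | succ r ih =>
    intro c hc
    refine mem_filt_succ.mpr fun f g hf hg => ?_
    have h : (⨆ i ∈ Finset.range (r + 1 + 1), LinearMap.range (TensorProduct.mapIncl (C i) (C (r + 1 - i)))) ≤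
        LinearMap.ker (LinearMap.mul' k k ∘ₗ TensorProduct.map f g) := by
      refine iSup₂_le fun i _ => ?_
      rw [LinearMap.range_le_ker_iff]
      refine TensorProduct.ext' fun x y => ?_
      simp only [LinearMap.comp_apply, TensorProduct.mapIncl, TensorProduct.map_tmul, Submodule.subtype_apply,
        LinearMap.mul'_apply, LinearMap.zero_apply]
      rcases Nat.eq_zero_or_pos i with rfl | hi
      · have hx0 : (x : A) ∈ Submodule.span k {(1 : A)} := by rw [← h0]; exact x.2
        obtain ⟨a, ha⟩ := Submodule.mem_span_singleton.mp hx0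
        rw [← ha, map_smul, hf, smul_zero, zero_mul]
      · rw [hg _ (ih (hmono (by omega) y.2)), mul_zero]
    exact h (hΔ (r + 1) ⟨c, hc, rfl⟩)

theorem isUnipotent_iff_filtration :
    HopfRep.IsUnipotent k A ↔ ∃ C : ℕ → Submodule k A, Monotone C ∧ C 0 = Submodule.span k {(1 : A)} ∧
      (⨆ r, C r) = ⊤ ∧ ∀ r, Submodule.map (comul (R := k) (A := A)) (C r) ≤
        ⨆ i ∈ Finset.range (r + 1), LinearMap.range (TensorProduct.mapIncl (C i) (C (r - i))) := by
  constructor
  · intro hU
    refine ⟨filt k A, filt_mono, rfl, eq_top_iff.mpr fun a _ => ?_, fun r => ?_⟩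
    · obtain ⟨n, hn⟩ := isConil_of_unipotent hU a
      exact Submodule.mem_iSup_of_mem n hn
    · rintro _ ⟨c, hc, rfl⟩
      exact comul_mem_iSup r hc
  · rintro ⟨C, hmono, h0, htop, hΔ⟩
    refine isUnipotent_of_conil fun a => ?_
    obtain ⟨n, hn⟩ := (Submodule.mem_iSup_of_directed _ hmono.directed_le).mp (htop ▸ Submodule.mem_top : a ∈ ⨆ r, C r)
    exact ⟨n, le_filt C hmono h0 hΔ n hn⟩

section Comodule

variable (k A) (V : Type w) [AddCommGroup V] [Module k V] [HopfRep.Comod k A V]

/-- The vectors with coefficients in a given stage of the filtration. -/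
def stage (n : ℕ) : Submodule k V :=
  ⨅ φ : V →ₗ[k] k, (filt k A n).comap (cL φ ∘ₗ HopfRep.Comod.coact (k := k) (A := A))

/-- The flag of stages, starting at zero. -/
def flag : ℕ → Submodule k V
  | 0 => ⊥
  | n + 1 => stage k A V n

variable {k A V}

theorem mem_stage {n : ℕ} {v : V} : v ∈ stage k A V n ↔
    ∀ φ, cL φ (HopfRep.Comod.coact (k := k) (A := A) v) ∈ filt k A n := by
  simp [stage, Submodule.mem_iInf]

theorem isSubcomod_stage (n : ℕ) : HopfRep.IsSubcomod (k := k) (A := A) (stage k A V n) :=
  isSubcomod_iff.mpr fun f v hv => mem_stage.mpr fun φ => by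
    rw [← coeff_smul]
    exact cR_mem_self (mem_stage.mp hv φ) f.ofConv

theorem isSubcomod_flag : ∀ n, HopfRep.IsSubcomod (k := k) (A := A) (flag k A V n)
  | 0 => fun v hv => by rw [(Submodule.mem_bot k).mp hv, map_zero]; exact zero_mem _
  | n + 1 => isSubcomod_stage n

theorem flag_mono : Monotone (flag k A V) := by
  refine monotone_nat_of_le_succ fun n => ?_
  cases n with
  | zero => exact bot_le
  | succ n => exact fun v hv => mem_stage.mpr fun φ => filt_le_succ n (mem_stage.mp hv φ)

theorem flag_trivial (n : ℕ) {v : V} (hv : v ∈ flag k A V (n + 1)) :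
    HopfRep.Comod.coact (k := k) (A := A) v - v ⊗ₜ[k] (1 : A) ∈ LinearMap.range ((flag k A V n).subtype.rTensor A) := by
  rw [mem_range_rTensor_iff]
  intro g
  let g' : A →ₗ[k] k := g - g 1 • counit (R := k) (A := A)
  have e : cR g (HopfRep.Comod.coact (k := k) (A := A) v - v ⊗ₜ[k] (1 : A)) =
      dact k A V (WithConv.toConv g') v := by
    have h1 := congr(TensorProduct.rid k V ($(HopfRep.Comod.counit_comp (k := k) (A := A) (V := V)) v))
    have h2 : cR (counit (R := k) (A := A)) (HopfRep.Comod.coact (k := k) (A := A) v) = v := by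
      simpa [cR] using h1
    rw [map_sub, cR_tmul, dact_apply]
    simp only [g', WithConv.ofConv_toConv, cR, LinearMap.lTensor_sub, LinearMap.lTensor_smul,
      LinearMap.comp_sub, LinearMap.comp_smul, LinearMap.sub_apply, LinearMap.smul_apply]
    rw [show (TensorProduct.rid k V).toLinearMap ∘ₗ (counit (R := k) (A := A)).lTensor V =
      cR (counit (R := k) (A := A)) from rfl, h2]
  rw [e]
  cases n with
  | zero =>
    refine (Submodule.mem_bot k).mpr ((Module.forall_dual_apply_eq_zero_iff k _).mp fun φ => ?_)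
    rw [← apply_cL_coact (WithConv.toConv g') φ v]
    obtain ⟨a, ha⟩ := Submodule.mem_span_singleton.mp (mem_stage.mp hv φ)
    rw [← ha, map_smul]
    simp [g']
  | succ n =>
    refine mem_stage.mpr fun φ => ?_
    rw [← coeff_smul]
    exact cR_mem (mem_stage.mp hv φ) (by simp [g'])

theorem fixed_of_mem {v : V} (hv : v ∈ flag k A V 1) : v ∈ HopfRep.fixedPts k A V := by
  have h := flag_trivial 0 hv
  have hb : LinearMap.range ((flag k A V 0).subtype.rTensor A) = ⊥ := by
    rw [show (flag k A V 0).subtype = 0 from LinearMap.ext fun x => (Submodule.mem_bot k).mp x.2,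
      LinearMap.rTensor_zero, LinearMap.range_zero]
  rw [hb, Submodule.mem_bot, sub_eq_zero] at h
  exact h

/-- A nonzero vector with coefficients in the conilpotent part gives a nonzero fixed vector. -/
theorem exists_fixed_of_coeff {v : V} (hv : v ≠ 0)
    (h : ∀ φ, ∃ n, cL φ (HopfRep.Comod.coact (k := k) (A := A) v) ∈ filt k A n) :
    HopfRep.fixedPts k A V ≠ ⊥ := by
  classical
  obtain ⟨S, hS⟩ := exists_finset (R := k) (HopfRep.Comod.coact (k := k) (A := A) v)
  let Φ : (V →ₗ[k] k) →ₗ[k] A :=
    { toFun := fun φ => cL φ (HopfRep.Comod.coact (k := k) (A := A) v)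
      map_add' := fun φ ψ => by simp [cL, LinearMap.rTensor_add]
      map_smul' := fun a φ => by simp [cL, LinearMap.rTensor_smul] }
  have hle : LinearMap.range Φ ≤ Submodule.span k (Prod.snd '' (S : Set (V × A))) := by
    rintro _ ⟨φ, rfl⟩
    show cL φ _ ∈ _
    rw [hS, map_sum]
    exact Submodule.sum_mem _ fun i hi => by
      rw [cL_tmul]; exact Submodule.smul_mem _ _ (Submodule.subset_span ⟨i, hi, rfl⟩)
  haveI : Module.Finite k (Submodule.span k (Prod.snd '' (S : Set (V × A)))) :=
    Module.Finite.span_of_finite k (S.finite_toSet.image _)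
  haveI : Module.Finite k (LinearMap.range Φ) := Submodule.finiteDimensional_of_le hle
  obtain ⟨s, hs⟩ := Module.Finite.iff_fg.mp (inferInstance : Module.Finite k (LinearMap.range Φ))
  have hmem : ∀ x ∈ s, ∃ n, x ∈ filt k A n := fun x hx => by
    obtain ⟨φ, rfl⟩ := (hs ▸ Submodule.subset_span hx : x ∈ LinearMap.range Φ)
    exact h φ
  choose m hm using hmem
  have hb : LinearMap.range Φ ≤ filt k A (s.attach.sup fun x => m x.1 x.2) := by
    rw [← hs, Submodule.span_le]
    exact fun x hx => filt_mono (Finset.le_sup (f := fun x : s => m x.1 x.2) (Finset.mem_attach _ ⟨x, hx⟩)) (hm x hx)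
  refine Groth.Agent.UnipFilt.exists_fixed (filt k A) le_rfl (fun n f hf c hc => ?_) _ v hv fun φ => hb ⟨φ, rfl⟩
  exact cR_mem_kills (m := 0) (b := n) (by rwa [zero_add]) hf

end Comodule

section Flags

variable (V : Type v) [AddCommGroup V] [Module k V] [HopfRep.Comod k A V] [Module.Finite k V]

theorem flag_top (hU : HopfRep.IsUnipotent k A) : flag k A V (Module.finrank k V + 1) = ⊤ :=
  eq_top_iff.mpr fun v _ => mem_stage.mpr fun φ => coeff_mem hU _ V le_rfl φ v

theorem act_sub_one_nilpotent (hU : HopfRep.IsUnipotent k A) (g : A →ₐ[k] k) :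
    IsNilpotent (HopfRep.Comod.act k A V g - 1) := by
  refine ⟨Module.finrank k V + 1, ?_⟩
  have e : HopfRep.Comod.act k A V g - 1 = dact k A V (toC (WithConv.toConv g) - 1) := by
    rw [map_sub, map_one]; rfl
  rw [e, ← map_pow]
  refine LinearMap.ext fun v => ?_
  rw [LinearMap.zero_apply, ← Module.forall_dual_apply_eq_zero_iff k]
  intro φ
  rw [← apply_cL_coact]
  exact kills_pow (toC_sub_one _) _ _ (coeff_mem hU _ V le_rfl φ v)

/-- Complete flags with trivial quotients. -/
theorem exists_complete_flag (hU : HopfRep.IsUnipotent k A) : ∀ i ≤ Module.finrank k V,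
    ∃ F : ℕ → Submodule k V, F 0 = ⊥ ∧ (∀ j ≤ i, Module.finrank k (F j) = j) ∧
      (∀ j ≤ i, HopfRep.IsSubcomod (k := k) (A := A) (F j)) ∧ ∀ j < i, F j ≤ F (j + 1) ∧
        ∀ v ∈ F (j + 1), HopfRep.Comod.coact (k := k) (A := A) v - v ⊗ₜ[k] (1 : A) ∈
          LinearMap.range ((F j).subtype.rTensor A) := by
  intro i
  induction i with
  | zero =>
    refine fun _ => ⟨fun _ => ⊥, rfl, fun j hj => by rw [Nat.le_zero.mp hj]; exact finrank_bot k V,
      fun j _ v hv => by rw [(Submodule.mem_bot k).mp hv, map_zero]; exact zero_mem _, fun j hj => absurd hj (by omega)⟩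
  | succ i ih =>
    intro hi
    obtain ⟨F, h0, hr, hs, ht⟩ := ih (by omega)
    letI cQ : HopfRep.Comod k A (V ⧸ F i) := ComodSub.Comod.quot inferInstance (F i) (hs i le_rfl)
    have hrq : Module.finrank k (V ⧸ F i) = Module.finrank k V - i := by
      have := (F i).finrank_quotient_add_finrank
      rw [hr i le_rfl] at this
      omega
    haveI : Nontrivial (V ⧸ F i) := Module.nontrivial_of_finrank_pos (R := k) (by omega)
    obtain ⟨q, hq, hq0⟩ := (Submodule.ne_bot_iff _).1 (hU (V ⧸ F i) inferInstance inferInstance)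
    obtain ⟨v, rfl⟩ := (F i).mkQ_surjective q
    have hv : v ∉ F i := fun h => hq0 ((Submodule.Quotient.mk_eq_zero _).mpr h)
    have hex := rTensor_exact A (LinearMap.exact_subtype_mkQ (F i)) (F i).mkQ_surjective
    have hvt : HopfRep.Comod.coact (k := k) (A := A) v - v ⊗ₜ[k] (1 : A) ∈ LinearMap.range ((F i).subtype.rTensor A) := by
      refine (hex _).1 ?_
      rw [map_sub, sub_eq_zero]
      exact hq
    let G := F i ⊔ Submodule.span k {v}
    have hle : F i ≤ G := le_sup_left
    have key : ∀ w ∈ G, HopfRep.Comod.coact (k := k) (A := A) w - w ⊗ₜ[k] (1 : A) ∈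
        LinearMap.range ((F i).subtype.rTensor A) := by
      intro w hw
      obtain ⟨x, hx, y, hy, rfl⟩ := Submodule.mem_sup.mp hw
      obtain ⟨a, rfl⟩ := Submodule.mem_span_singleton.mp hy
      have h1 : HopfRep.Comod.coact (k := k) (A := A) x - x ⊗ₜ[k] (1 : A) ∈ LinearMap.range ((F i).subtype.rTensor A) :=
        sub_mem (hs i le_rfl x hx) ⟨⟨x, hx⟩ ⊗ₜ 1, rfl⟩
      have e : HopfRep.Comod.coact (k := k) (A := A) (x + a • v) - (x + a • v) ⊗ₜ[k] (1 : A) =
          (HopfRep.Comod.coact (k := k) (A := A) x - x ⊗ₜ[k] (1 : A)) +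
            a • (HopfRep.Comod.coact (k := k) (A := A) v - v ⊗ₜ[k] (1 : A)) := by
        rw [map_add, map_smul, TensorProduct.add_tmul, smul_sub, TensorProduct.smul_tmul']
        abel
      rw [e]
      exact add_mem h1 (Submodule.smul_mem _ _ hvt)
    have hG : Module.finrank k G = i + 1 := by
      have hd : Disjoint (F i) (Submodule.span k {v}) := by
        rw [Submodule.disjoint_span_singleton' (fun h => hv (by rw [h]; exact zero_mem _))]
        exact hv
      have := Submodule.finrank_sup_add_finrank_inf_eq (F i) (Submodule.span k {v})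
      rw [hd.eq_bot, finrank_bot, hr i le_rfl, finrank_span_singleton (fun h => hv (by rw [h]; exact zero_mem _))] at this
      omega
    have hGs : HopfRep.IsSubcomod (k := k) (A := A) G := fun w hw => by
      have h1 : LinearMap.range ((F i).subtype.rTensor A) ≤ LinearMap.range (G.subtype.rTensor A) := by
        intro t ht
        rw [mem_range_rTensor_iff] at ht ⊢
        exact fun f => hle (ht f)
      have := add_mem (h1 (key w hw)) (show w ⊗ₜ[k] (1 : A) ∈ LinearMap.range (G.subtype.rTensor A) from
        ⟨⟨w, hw⟩ ⊗ₜ 1, rfl⟩)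
      rwa [sub_add_cancel] at this
    obtain ⟨F', e1, e2⟩ : ∃ F' : ℕ → Submodule k V, (∀ j ≤ i, F' j = F j) ∧ F' (i + 1) = G :=
      ⟨fun j => if j ≤ i then F j else G, fun j hj => if_pos hj, if_neg (by omega)⟩
    have hcase : ∀ j ≤ i + 1, j ≤ i ∨ j = i + 1 := fun j hj => by omega
    refine ⟨F', (e1 0 (Nat.zero_le _)).trans h0, fun j hj => ?_, fun j hj => ?_, fun j hj => ?_⟩
    · rcases hcase j hj with h | rfl
      · rw [e1 j h]; exact hr j h
      · rw [e2]; exact hG
    · rcases hcase j hj with h | rfl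
      · rw [e1 j h]; exact hs j h
      · rw [e2]; exact hGs
    · rw [e1 j (by omega)]
      rcases hcase (j + 1) (by omega) with h | h
      · rw [e1 (j + 1) h]; exact ht j (by omega)
      · obtain rfl : j = i := by omega
        rw [e2]
        exact ⟨hle, key⟩

end Flags

/-- The filtration is functorial. -/
theorem filt_map' {W : Type w} [CommRing W] [Bialgebra k W] (p : A →ₐc[k] W) :
    ∀ (n : ℕ) (a : A), a ∈ filt k A n → p a ∈ filt k W n := by
  intro n
  induction n with
  | zero =>
    intro a ha
    obtain ⟨c, rfl⟩ := Submodule.mem_span_singleton.mp ha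
    rw [map_smul, map_one]
    exact Submodule.smul_mem _ _ (one_mem_filt 0)
  | succ n ih =>
    intro a ha
    refine mem_filt_succ.mpr fun f g hf hg => ?_
    let pl : A →ₗ[k] W := (p : A →ₐ[k] W).toLinearMap
    have := mem_filt_succ.mp ha (f ∘ₗ pl) (g ∘ₗ pl) (by simp [pl, hf]) (fun x hx => hg _ (ih x hx))
    rw [← this]
    show LinearMap.mul' k k (TensorProduct.map f g (comul (R := k) (p a))) =
      LinearMap.mul' k k (TensorProduct.map (f ∘ₗ pl) (g ∘ₗ pl) (comul (R := k) a))
    rw [← CoalgHomClass.map_comp_comul_apply p a, TensorProduct.map_comp]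
    rfl

/-- Quotient groups of unipotent groups are unipotent. -/
theorem isConil_of_surjective {W : Type w} [CommRing W] [Bialgebra k W] (p : A →ₐc[k] W)
    (hp : Function.Surjective p) (h : IsConil k A) : IsConil k W := fun w => by
  obtain ⟨a, rfl⟩ := hp w
  obtain ⟨n, hn⟩ := h a
  exact ⟨n, filt_map' p n a hn⟩

/-- The filtration of a sub-bialgebra is the induced one. -/
theorem mem_filt_of_injective {W : Type w} [CommRing W] [Bialgebra k W] (p : W →ₐc[k] A)
    (hp : Function.Injective p) : ∀ (n : ℕ) (c : W), p c ∈ filt k A n → c ∈ filt k W n := by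
  intro n
  induction n with
  | zero =>
    intro c hc
    obtain ⟨a, ha⟩ := Submodule.mem_span_singleton.mp hc
    exact Submodule.mem_span_singleton.mpr ⟨a, hp (by rw [map_smul, map_one, ha])⟩
  | succ n ih =>
    intro c hc
    refine mem_filt_succ.mpr fun f g hf hg => ?_
    rw [pair_eq_cL]
    refine hg _ (ih _ ?_)
    let pl : W →ₗ[k] A := (p : W →ₐ[k] A).toLinearMap
    obtain ⟨L, hL⟩ := pl.exists_leftInverse_of_injective (LinearMap.ker_eq_bot.mpr hp)
    have hL' : ∀ x, L (p x) = x := fun x => LinearMap.congr_fun hL x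
    have h1 := cL_mem hc (f := f ∘ₗ L) (by
      rw [LinearMap.comp_apply, ← map_one p, hL', hf])
    have e : ∀ t : W ⊗[k] W, cL (f ∘ₗ L) (TensorProduct.map pl pl t) = p (cL f t) := by
      intro t
      induction t using TensorProduct.induction_on with
      | zero => simp
      | tmul x y => simp [pl, hL']
      | add x y hx hy => simp only [map_add, hx, hy]
    rw [show comul (R := k) (p c) = TensorProduct.map pl pl (comul (R := k) c) from
      (CoalgHomClass.map_comp_comul_apply p c).symm, e] at h1
    exact h1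

theorem isConil_of_injective {W : Type w} [CommRing W] [Bialgebra k W] (p : W →ₐc[k] A)
    (hp : Function.Injective p) (h : IsConil k A) : IsConil k W := fun c => by
  obtain ⟨n, hn⟩ := h (p c)
  exact ⟨n, mem_filt_of_injective p hp n c hn⟩

end Groth.Agent.UnipConil
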