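import Mathlib
import Groth.Agent.UnipConil.Basic

/-!
Points and translations of unipotent groups.
-/

set_option autoImplicit false
set_option linter.style.haveILetI false
set_option linter.unusedSectionVars false

universe u v

open TensorProduct Coalgebra
open Groth.Agent.Comod
open scoped Groth.Agent.Comod

noncomputable section

namespace Groth.Agent.UnipConil

variable {k : Type u} [Field k] {A : Type v} [CommRing A] [Bialgebra k A]

/-- A functional kills a stage of the filtration. -/
def Kills (n : ℕ) (f : CDual k A) : Prop := ∀ c ∈ filt k A n, f.ofConv c = 0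

theorem ofConv_mul_apply (f g : CDual k A) (c : A) :
    (f * g).ofConv c = pair k A f.ofConv g.ofConv c := (pair_eq_mul f.ofConv g.ofConv c).symm

theorem cR_mem_self {n : ℕ} {c : A} (hc : c ∈ filt k A n) (f : A →ₗ[k] k) :
    cR f (comul (R := k) c) ∈ filt k A n := by
  have hd : cR (f - f 1 • counit (R := k) (A := A)) (comul (R := k) c) ∈ filt k A n :=
    cR_mem (filt_le_succ n hc) (by simp)
  have hce : cR (counit (R := k) (A := A)) (comul (R := k) c) = c := by
    show TensorProduct.rid k A ((counit (R := k) (A := A)).lTensor A (comul (R := k) c)) = c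
    rw [Coalgebra.lTensor_counit_comul]; simp
  have : cR f (comul (R := k) c) =
      cR (f - f 1 • counit (R := k) (A := A)) (comul (R := k) c) + f 1 • c := by
    conv_rhs => arg 2; rw [← hce]
    simp [cR, LinearMap.lTensor_sub, LinearMap.lTensor_smul]
  rw [this]
  exact Submodule.add_mem _ hd (Submodule.smul_mem _ _ hc)

theorem Kills.mul_right {n : ℕ} {f : CDual k A} (hf : Kills n f) (g : CDual k A) : Kills n (f * g) :=
  fun c hc => by rw [ofConv_mul_apply, pair_eq_cR]; exact hf _ (cR_mem_self hc _)

theorem Kills.mul_succ {n : ℕ} {f g : CDual k A} (hf : Kills n f) (hg : g.ofConv 1 = 0) :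
    Kills (n + 1) (f * g) :=
  fun c hc => by rw [ofConv_mul_apply]; exact pair_right n _ _ hf hg c hc

theorem kills_pow {f : CDual k A} (hf : f.ofConv 1 = 0) : ∀ n, Kills n (f ^ (n + 1))
  | 0 => fun c hc => by
    obtain ⟨a, rfl⟩ := Submodule.mem_span_singleton.mp hc
    rw [pow_one, map_smul, hf, smul_zero]
  | n + 1 => by
    rw [pow_succ]
    exact (kills_pow hf n).mul_succ hf

theorem kills_pow_of_le {f : CDual k A} (hf : f.ofConv 1 = 0) {n j : ℕ} (hj : n + 1 ≤ j) : Kills n (f ^ j) := by
  obtain ⟨d, rfl⟩ := Nat.exists_eq_add_of_le hj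
  rw [pow_add]
  exact (kills_pow hf n).mul_right _

/-- Points as functionals. -/
def toC : WithConv (A →ₐ[k] k) →* CDual k A where
  toFun g := WithConv.toConv g.ofConv.toLinearMap
  map_one' := by ext a; simp [LinearMap.convOne_def, AlgHom.convOne_def]
  map_mul' g h := AlgHom.toLinearMap_convMul g h

theorem toC_apply (g : WithConv (A →ₐ[k] k)) (a : A) : (toC g).ofConv a = g.ofConv a := rfl

theorem one_apply (a : A) : (1 : CDual k A).ofConv a = counit (R := k) a := by
  simp [LinearMap.convOne_def]

theorem toC_injective : Function.Injective (toC (k := k) (A := A)) := fun g h e => by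
  apply WithConv.ofConv_injective
  exact AlgHom.ext fun a => congrArg (fun f : CDual k A => f.ofConv a) e

theorem toC_sub_one (g : WithConv (A →ₐ[k] k)) : (toC g - 1).ofConv 1 = 0 := by
  simp [toC_apply, one_apply]

/-- A root of a point is unique to first order. -/
theorem kills_of_pow {n e : ℕ} (he : (e : k) ≠ 0) {G : CDual k A} (hG1 : G.ofConv 1 = 1)
    (hn : Kills n (G - 1)) (hp : Kills (n + 1) (G ^ e - 1)) : Kills (n + 1) (G - 1) := by
  have hX : (G - 1).ofConv 1 = 0 := by simp [hG1, one_apply]
  have key : ∀ j : ℕ, Kills (n + 1) (G ^ j - 1 - (j : k) • (G - 1)) := by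
    intro j
    induction j with
    | zero => intro c _; simp
    | succ j ih =>
      have e1 : G ^ (j + 1) - 1 - ((j + 1 : ℕ) : k) • (G - 1) =
          (G ^ j - 1 - (j : k) • (G - 1)) * G + (j : k) • ((G - 1) * (G - 1)) := by
        rw [pow_succ]
        push_cast
        simp only [sub_mul, mul_sub, smul_mul_assoc, one_mul, mul_one, add_smul, one_smul, smul_sub]
        abel
      intro c hc
      rw [e1]
      simp only [WithConv.ofConv_add, WithConv.ofConv_smul, LinearMap.add_apply, LinearMap.smul_apply]
      rw [(ih.mul_right G) c hc, (hn.mul_succ hX) c hc, smul_zero, add_zero]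
  intro c hc
  have h1 := key e c hc
  simp only [WithConv.ofConv_sub, WithConv.ofConv_smul, LinearMap.sub_apply, LinearMap.smul_apply] at h1
  have h2 := hp c hc
  simp only [WithConv.ofConv_sub, LinearMap.sub_apply] at h2
  rw [h2, zero_sub, neg_eq_zero, smul_eq_mul] at h1
  simpa using (mul_eq_zero.mp h1).resolve_left he

/-- A point killed by an invertible exponent is trivial. -/
theorem eq_one_of_pow_eq_one (h : IsConil k A) {e : ℕ} (he : (e : k) ≠ 0) {g : WithConv (A →ₐ[k] k)}
    (hg : g ^ e = 1) : g = 1 := by
  have hk : ∀ n, Kills n (toC g - 1) := by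
    intro n
    induction n with
    | zero =>
      intro c hc
      obtain ⟨a, rfl⟩ := Submodule.mem_span_singleton.mp hc
      rw [map_smul, toC_sub_one, smul_zero]
    | succ n ih =>
      refine kills_of_pow he (by simp [toC_apply]) ih fun c _ => ?_
      rw [← map_pow, hg, map_one, sub_self]; rfl
  apply toC_injective
  apply WithConv.ofConv_injective
  refine LinearMap.ext fun a => ?_
  obtain ⟨n, hn⟩ := h a
  have := hk n a hn
  rw [map_one]
  simpa [sub_eq_zero] using this

/-- Left translation by a point. -/
def trans (g : A →ₐ[k] k) : A →ₐ[k] A :=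
  (Algebra.TensorProduct.lid k A).toAlgHom.comp
    ((Algebra.TensorProduct.map g (AlgHom.id k A)).comp (Bialgebra.comulAlgHom k A))

theorem trans_apply (g : A →ₐ[k] k) (a : A) : trans g a = cL g.toLinearMap (comul (R := k) a) := rfl

theorem counit_trans (g : A →ₐ[k] k) (a : A) : counit (R := k) (trans g a) = g a := by
  rw [trans_apply]
  show counit (R := k) (cL g.toLinearMap (comul (R := k) a)) = g.toLinearMap a
  rw [← pair_eq_cL, pair_eq_cR]
  congr 1
  show TensorProduct.rid k A ((counit (R := k) (A := A)).lTensor A (comul (R := k) a)) = a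
  rw [Coalgebra.lTensor_counit_comul]; simp

theorem trans_sub_mem (g : A →ₐ[k] k) {n : ℕ} {c : A} (hc : c ∈ filt k A (n + 1)) :
    trans g c - c ∈ filt k A n := by
  have h := cL_mem hc (f := g.toLinearMap - counit (R := k) (A := A)) (by simp)
  have hce : cL (counit (R := k) (A := A)) (comul (R := k) c) = c := by
    show TensorProduct.lid k A ((counit (R := k) (A := A)).rTensor A (comul (R := k) c)) = c
    rw [Coalgebra.rTensor_counit_comul]; simp
  have : cL (g.toLinearMap - counit (R := k) (A := A)) (comul (R := k) c) =
      trans g c - cL (counit (R := k) (A := A)) (comul (R := k) c) := by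
    rw [trans_apply]
    simp [cL, LinearMap.rTensor_sub]
  rwa [this, hce] at h

theorem trans_zero (g : A →ₐ[k] k) {c : A} (hc : c ∈ filt k A 0) : trans g c = c := by
  obtain ⟨a, rfl⟩ := Submodule.mem_span_singleton.mp hc
  rw [map_smul, map_one]

theorem trans_injective (h : IsConil k A) (g : A →ₐ[k] k) : Function.Injective (trans g) := by
  rw [injective_iff_map_eq_zero]
  have key : ∀ n, ∀ y ∈ filt k A n, trans g y = 0 → y = 0 := by
    intro n
    induction n with
    | zero => intro y hy e; rwa [trans_zero g hy] at e
    | succ n ih =>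
      intro y hy e
      have := trans_sub_mem g hy
      rw [e, zero_sub, neg_mem_iff] at this
      exact ih y this e
  intro y hy
  obtain ⟨n, hn⟩ := h y
  exact key n y hn hy

/-- In characteristic zero periodic elements are fixed. -/
theorem trans_eq_of_periodic [CharZero k] (h : IsConil k A) (g : A →ₐ[k] k) {m : ℕ} (hm : 0 < m) {x : A}
    (hx : (trans g)^[m] x = x) : trans g x = x := by
  suffices key : ∀ n, ∀ x ∈ filt k A n, (trans g)^[m] x = x → trans g x = x by
    obtain ⟨n, hn⟩ := h x
    exact key n x hn hx
  intro n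
  induction n with
  | zero => intro x hx' _; exact trans_zero g hx'
  | succ n ih =>
    intro x hx' hxm
    set y := trans g x - x with hy
    have hym : (trans g)^[m] y = y := by
      rw [hy, iterate_map_sub, hxm, ← Function.iterate_succ_apply, Function.iterate_succ_apply' (trans g) m x, hxm]
    have hfix := ih y (trans_sub_mem g hx') hym
    have hit : ∀ j : ℕ, (trans g)^[j] x = x + j • y := by
      intro j
      induction j with
      | zero => simp
      | succ j ihj =>
        rw [Function.iterate_succ_apply', ihj, map_add, map_nsmul, hfix, hy, succ_nsmul]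
        abel
    have h2 := hit m
    rw [hxm, left_eq_add] at h2
    have h3 : (m : k) • y = 0 := by rw [Nat.cast_smul_eq_nsmul]; exact h2
    rw [smul_eq_zero, Nat.cast_eq_zero] at h3
    exact sub_eq_zero.mp (h3.resolve_left hm.ne')

theorem finite_idempotents (B : Type*) [CommRing B] [IsNoetherianRing B] :
    {e : B | IsIdempotentElem e}.Finite := by
  classical
  have : Finite (minimalPrimes B) := (minimalPrimes.finite_of_isNoetherianRing B).to_subtype
  let F : {e : B | IsIdempotentElem e} → Set (minimalPrimes B) := fun e => {P | e.1 ∈ P.1}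
  have hF : Function.Injective F := by
    intro a b hab
    obtain ⟨a, ha⟩ := a
    obtain ⟨b, hb⟩ := b
    apply Subtype.ext
    have hn : IsNilpotent (a - b) := by
      rw [nilpotent_iff_mem_prime]
      intro Q hQ
      obtain ⟨P, hP, hPQ⟩ := Ideal.exists_minimalPrimes_le (I := (⊥ : Ideal B)) (J := Q) bot_le
      refine hPQ ?_
      have hPp : P.IsPrime := hP.1.1
      have hm : (a ∈ P ↔ b ∈ P) := Set.ext_iff.mp hab ⟨P, hP⟩
      by_cases h : a ∈ P
      · exact P.sub_mem h (hm.mp h)
      · have h1 : ∀ x : B, IsIdempotentElem x → x ∉ P → 1 - x ∈ P := fun x hx hxP =>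
          (hPp.mem_or_mem (show x * (1 - x) ∈ P by rw [mul_sub, mul_one, hx.eq, sub_self]; exact P.zero_mem)).resolve_left hxP
        have := P.sub_mem (h1 b hb (fun hb' => h (hm.mpr hb'))) (h1 a ha h)
        rwa [sub_sub_sub_cancel_left] at this
    obtain ⟨N, hN⟩ := hn
    have h3 : (a - b) ^ 3 = a - b := by linear_combination ((a + 1) - 3 * b) * ha.eq + (-(b + 1) + 3 * a) * hb.eq
    have hall : ∀ j, (a - b) ^ (2 * j + 1) = a - b := by
      intro j
      induction j with
      | zero => simp
      | succ j ihj => rw [show 2 * (j + 1) + 1 = 2 + (2 * j + 1) by ring, pow_add, ihj, ← pow_succ]; exact h3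
    have : a - b = 0 := by
      rw [← hall N, show 2 * N + 1 = N + (N + 1) by ring, pow_add, hN, zero_mul]
    exact sub_eq_zero.mp this
  exact Set.finite_coe_iff.mp (Finite.of_injective F hF)

/-- Conilpotent bialgebras of finite type in characteristic zero have no nontrivial idempotents. -/
theorem idempotent_eq [CharZero k] [IsAlgClosed k] [Algebra.FiniteType k A] (h : IsConil k A)
    {e : A} (he : IsIdempotentElem e) : e = 0 ∨ e = 1 := by
  haveI : IsNoetherianRing A := Algebra.FiniteType.isNoetherianRing k A
  suffices key : ∀ f : A, IsIdempotentElem f → counit (R := k) f = 0 → f = 0 by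
    have hce : counit (R := k) e = 0 ∨ counit (R := k) e = 1 :=
      IsIdempotentElem.iff_eq_zero_or_one.mp (by
        show counit (R := k) e * counit (R := k) e = _
        rw [← Bialgebra.counit_mul, he.eq])
    rcases hce with hc | hc
    · exact Or.inl (key e he hc)
    · exact Or.inr (sub_eq_zero.mp (key _ he.one_sub (by simp [hc]))).symm
  intro f hf hcf
  have hg : ∀ g : A →ₐ[k] k, g f = 0 := by
    intro g
    have hfin := finite_idempotents A
    have hmem : ∀ i : ℕ, IsIdempotentElem ((trans g)^[i] f) := by
      intro i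
      induction i with
      | zero => exact hf
      | succ i ih => rw [Function.iterate_succ_apply']; exact ih.map (trans g)
    obtain ⟨i, -, j, -, hij, e1⟩ := Set.infinite_univ.exists_ne_map_eq_of_mapsTo
      (f := fun i : ℕ => (trans g)^[i] f) (t := {e : A | IsIdempotentElem e}) (fun i _ => hmem i) hfin
    have main : ∀ i j : ℕ, i < j → (trans g)^[i] f = (trans g)^[j] f → trans g f = f := by
      intro i j hlt e1
      obtain ⟨m, rfl⟩ := Nat.exists_eq_add_of_le hlt.le
      have hfix : (trans g)^[m] ((trans g)^[i] f) = (trans g)^[i] f := by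
        rw [← Function.iterate_add_apply, add_comm m i, ← e1]
      have h2 := trans_eq_of_periodic h g (by omega : 0 < m) hfix
      rw [← Function.iterate_succ_apply' (trans g) i f, Function.iterate_succ_apply (trans g) i f] at h2
      exact (trans_injective h g).iterate i h2
    have : trans g f = f := by
      rcases lt_or_gt_of_ne hij with hlt | hlt
      · exact main i j hlt e1
      · exact main j i hlt e1.symm
    rw [← counit_trans g f, this, hcf]
  by_contra hne
  have hnu : ¬ IsUnit (1 - f) := fun hu => hne (hu.mul_left_eq_zero.mp (by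
    show f * (1 - f) = 0
    rw [mul_sub, mul_one, hf.eq, sub_self]))
  obtain ⟨M, hM, hmem⟩ := exists_max_ideal_of_mem_nonunits (mem_nonunits_iff.mpr hnu)
  letI : Field (A ⧸ M) := Ideal.Quotient.field M
  haveI : Algebra.FiniteType k (A ⧸ M) :=
    Algebra.FiniteType.of_surjective (Ideal.Quotient.mkₐ k M) Ideal.Quotient.mk_surjective
  haveI : Module.Finite k (A ⧸ M) := finite_of_finite_type_of_isJacobsonRing k (A ⧸ M)
  let φ : (A ⧸ M) →ₐ[k] k := IsAlgClosed.lift
  have h1 : φ (Ideal.Quotient.mk M (1 - f)) = 0 := by
    rw [Ideal.Quotient.eq_zero_iff_mem.mpr hmem, map_zero]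
  have h2 := hg (φ.comp (Ideal.Quotient.mkₐ k M))
  simp only [AlgHom.comp_apply, Ideal.Quotient.mkₐ_eq_mk] at h2
  rw [map_sub, map_sub, map_one, map_one, h2, sub_zero] at h1
  exact one_ne_zero h1

end Groth.Agent.UnipConil
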